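import Groth.Agent.H13Desc.BigRes
import Groth.Agent.H13Desc.SigmaPsh
import Groth.Agent.H15Site.IntDesc.Val
import Mathlib

/-!
The inverse image on the big étale site of an abelian sheaf on the small étale site satisfies the
sheaf condition for fpqc coverings.
-/

set_option autoImplicit false
set_option linter.style.haveILetI false
set_option backward.isDefEq.respectTransparency false
set_option backward.isDefEq.respectTransparency.types false

universe u

open CategoryTheory CategoryTheory.Limits AlgebraicGeometry Opposite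
open Groth.Agent.H18Et Groth.Agent.H15Site.IntDesc
open scoped Groth.Agent.H18Et

namespace Groth.Agent.H13BigSite.PiFpqc

variable {S : Scheme.{u}} (F : EtCoh.Ab S)

/-- The big sheaf. -/
noncomputable abbrev Gs : BigSite.Ab Scheme.etalePrecoverage S :=
  (BigSite.piEtPull Scheme.etalePrecoverage S).obj F

/-- Its sections. -/
noncomputable abbrev gv (X : Over S) : Type (u + 1) := (Gs F).obj.obj (op X)

/-- Restriction of sections. -/
noncomputable def rs {X Y : Over S} (k : Y ⟶ X) (s : gv F X) : gv F Y := (Gs F).obj.map k.op s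

variable {F}

lemma rs_rs {X Y Z : Over S} (k : Y ⟶ X) (l : Z ⟶ Y) (m : Z ⟶ X) (h : l ≫ k = m) (s : gv F X) :
    rs F l (rs F k s) = rs F m s := by
  subst h
  exact (ConcreteCategory.congr_hom ((Gs F).obj.map_comp k.op l.op) s).symm

lemma rs_id {X : Over S} (s : gv F X) : rs F (𝟙 X) s = s :=
  ConcreteCategory.congr_hom ((Gs F).obj.map_id (op X)) s

instance {K : Type u} [Field K] (q : Spec (CommRingCat.of K) ⟶ S) : Inhabited ↥(Over.mk q).left :=
  inferInstanceAs (Inhabited ↥(Spec (CommRingCat.of K)))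

variable {Ω : Type u} [Field Ω] [IsSepClosed Ω]

/-- Near a geometric point at which two sections agree they agree. -/
theorem exists_nbhd_eq {X : Over S} {q : Spec (CommRingCat.of Ω) ⟶ S} (h : Over.mk q ⟶ X)
    (s t : gv F X) (e : rs F h s = rs F h t) :
    ∃ (U : Over S) (g : U ⟶ X) (z : Over.mk q ⟶ U),
      Etale g.left ∧ z ≫ g = h ∧ rs F g s = rs F g t := by
  obtain ⟨η, hη, rfl⟩ : ∃ (η : Spec (CommRingCat.of Ω) ⟶ X.left) (hη : η ≫ X.hom = q),
      h = Over.homMk η hη := ⟨h.left, Over.w h, Over.OverMorphism.ext rfl⟩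
  subst hη
  let i : (Over.map X.hom).obj ((EtFppf.a X.left).obj (EtCoh.top X.left)) ⟶ X :=
    Over.homMk (𝟙 _) (show 𝟙 _ ≫ X.hom = 𝟙 _ ≫ X.hom from rfl)
  let H := (BigSite.pullBig Scheme.etalePrecoverage X.hom AddCommGrpCat.{u + 1}).obj (Gs F)
  let z₀ : (Scheme.pointSmallEtale η).fiber.obj (EtCoh.top X.left) :=
    (Over.homMk η (Category.comp_id η) : Over.mk η ⟶ (EtFppf.a X.left).obj (EtCoh.top X.left))
  have hz : (Over.map X.hom).map (show Over.mk η ⟶ (EtFppf.a X.left).obj (EtCoh.top X.left) from z₀) ≫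
      i = Over.homMk η rfl := Over.OverMorphism.ext (Category.comp_id η)
  have key : germ η ((BigSite.resEt Scheme.etalePrecoverage X.left).obj H) (EtCoh.top X.left) z₀
        (rs F i s) =
      germ η ((BigSite.resEt Scheme.etalePrecoverage X.left).obj H) (EtCoh.top X.left) z₀ (rs F i t) := by
    refine (valEv_bijective_big η X.hom F).1 ?_
    refine (valEv_germ η H _ z₀ _).trans (Eq.trans ?_ (valEv_germ η H _ z₀ _).symm)
    exact (rs_rs _ _ _ hz s).trans (e.trans (rs_rs _ _ _ hz t).symm)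
  obtain ⟨V, g, y, hy, he⟩ := (germ_eq_iff η _ (EtCoh.top X.left) z₀ _ _).1 key
  let g' : (Over.map X.hom).obj ((EtFppf.a X.left).obj V) ⟶ X :=
    (Over.map X.hom).map ((EtFppf.a X.left).map g) ≫ i
  have hg : g'.left = V.hom := Over.w g.hom
  refine ⟨_, g', (Over.map X.hom).map (show Over.mk η ⟶ (EtFppf.a X.left).obj V from y), ?_,
    Over.OverMorphism.ext ?_, ?_⟩
  · rw [hg]; exact V.prop
  · exact (congrArg ((show Over.mk η ⟶ (EtFppf.a X.left).obj V from y).left ≫ ·) hg).trans
      (Over.w (show Over.mk η ⟶ (EtFppf.a X.left).obj V from y))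
  · exact (rs_rs i _ g' rfl s).symm.trans (he.trans (rs_rs i _ g' rfl t))

/-- Values at a geometric point extend to an étale neighbourhood. -/
theorem exists_nbhd_rep {X : Over S} {q : Spec (CommRingCat.of Ω) ⟶ S} (h : Over.mk q ⟶ X)
    (c : gv F (Over.mk q)) :
    ∃ (U : Over S) (g : U ⟶ X) (z : Over.mk q ⟶ U) (a : gv F U),
      Etale g.left ∧ z ≫ g = h ∧ rs F z a = c := by
  obtain ⟨η, hη, rfl⟩ : ∃ (η : Spec (CommRingCat.of Ω) ⟶ X.left) (hη : η ≫ X.hom = q),
      h = Over.homMk η hη := ⟨h.left, Over.w h, Over.OverMorphism.ext rfl⟩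
  subst hη
  let H := (BigSite.pullBig Scheme.etalePrecoverage X.hom AddCommGrpCat.{u + 1}).obj (Gs F)
  obtain ⟨p, hp⟩ := (valEv_bijective_big η X.hom F).2 c
  obtain ⟨U, z, a, rfl⟩ := germ_surjective η ((BigSite.resEt Scheme.etalePrecoverage X.left).obj H) p
  let z' : Over.mk η ⟶ (EtFppf.a X.left).obj U := z
  let g : (Over.map X.hom).obj ((EtFppf.a X.left).obj U) ⟶ X := Over.homMk U.hom rfl
  exact ⟨_, g, (Over.map X.hom).map z', a, U.prop, Over.OverMorphism.ext (Over.w z'),
    (valEv_germ η H U z a).symm.trans hp⟩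

/-- Values do not change under extensions of separably closed fields. -/
theorem bijective_rs_field {Ω' : Type u} [Field Ω'] [IsSepClosed Ω'] {q : Spec (CommRingCat.of Ω) ⟶ S}
    {q' : Spec (CommRingCat.of Ω') ⟶ S} (k : Over.mk q' ⟶ Over.mk q) :
    Function.Bijective (rs F k) := by
  have hsec : ∀ (U : Over S) (g : U ⟶ Over.mk q) (z : Over.mk q' ⟶ U), Etale g.left →
      ∃ l : Over.mk q ⟶ U, l ≫ g = 𝟙 _ ∧ l.left.base default = z.left.base default := by
    intro U g z hg
    obtain ⟨l, hl, hlz⟩ := Scheme.exists_fac_of_etale_of_isSepClosed g.left (𝟙 _)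
      (z.left.base default) (Subsingleton.elim (α := ↥(Spec (CommRingCat.of Ω))) _ _)
    exact ⟨Over.homMk l (show l ≫ U.hom = q by rw [← Over.w g, reassoc_of% hl]; rfl),
      Over.OverMorphism.ext hl, hlz⟩
  refine ⟨fun s t e => ?_, fun c => ?_⟩
  · obtain ⟨U, g, z, hg, -, he⟩ := exists_nbhd_eq k s t e
    obtain ⟨l, hl, -⟩ := hsec U g z hg
    rw [← rs_id s, ← rs_id t, ← rs_rs g l _ hl s, ← rs_rs g l _ hl t, he]
  · obtain ⟨U, g, z, a, hg, hz, ha⟩ := exists_nbhd_rep k c
    obtain ⟨l, hl, hlz⟩ := hsec U g z hg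
    refine ⟨rs F l a, (rs_rs l k _ ?_ a).trans ha⟩
    have hl' : l.left ≫ g.left = 𝟙 _ := congrArg CommaMorphism.left hl
    haveI : Etale (l.left ≫ g.left) := by rw [hl']; exact inferInstanceAs (Etale (𝟙 _))
    haveI : Etale l.left := Etale.of_comp _ g.left
    haveI : IsSplitMono l.left := ⟨⟨g.left, hl'⟩⟩
    haveI : IsOpenImmersion l.left := IsOpenImmersion.of_flat_of_mono l.left
    have hrange : Set.range z.left.base ⊆ Set.range l.left.base := by
      rintro _ ⟨a, rfl⟩
      exact ⟨default, hlz.trans (congrArg _ (Subsingleton.elim (α := ↥(Spec (CommRingCat.of Ω'))) _ _))⟩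
    obtain ⟨z', hz'⟩ : ∃ z', z' ≫ l.left = z.left :=
      ⟨_, IsOpenImmersion.lift_fac l.left z.left hrange⟩
    refine Over.OverMorphism.ext ?_
    have hzk : z.left ≫ g.left = k.left := congrArg CommaMorphism.left hz
    calc k.left ≫ l.left = (z' ≫ l.left ≫ g.left) ≫ l.left := by rw [reassoc_of% hz', hzk]
      _ = z.left := by rw [hl', Category.comp_id, hz']

/-- A geometric point over a point. -/
theorem exists_geomPt (X : Over S) (x : X.left) :
    ∃ (K : Type u) (_ : Field K) (_ : IsSepClosed K) (q : Spec (CommRingCat.of K) ⟶ S)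
      (h : Over.mk q ⟶ X), h.left.base default = x :=
  ⟨_, inferInstance, SeparableClosure.isSepClosed _, geomPt x ≫ X.hom,
    Over.homMk (geomPt x) rfl, geomPt_base x⟩

/-- Lifting geometric points along surjections, after an extension of the field. -/
theorem exists_lift {X Y : Over S} (k : Y ⟶ X) [Surjective k.left] {q : Spec (CommRingCat.of Ω) ⟶ S}
    (h : Over.mk q ⟶ X) :
    ∃ (K : Type u) (_ : Field K) (_ : IsSepClosed K) (q' : Spec (CommRingCat.of K) ⟶ S)
      (h' : Over.mk q' ⟶ Y) (ι : Over.mk q' ⟶ Over.mk q), h' ≫ k = ι ≫ h := by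
  haveI : Surjective (pullback.snd k.left h.left) :=
    MorphismProperty.pullback_snd (P := @Surjective) _ _ inferInstance
  obtain ⟨p, -⟩ := (pullback.snd k.left h.left).surjective default
  let ξ := geomPt p
  refine ⟨_, inferInstance, SeparableClosure.isSepClosed _, (ξ ≫ pullback.snd k.left h.left) ≫ q,
    Over.homMk (ξ ≫ pullback.fst k.left h.left) ?_, Over.homMk (ξ ≫ pullback.snd k.left h.left) rfl,
    Over.OverMorphism.ext ?_⟩
  · change (ξ ≫ pullback.fst k.left h.left) ≫ Y.hom = (ξ ≫ pullback.snd k.left h.left) ≫ q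
    rw [← Over.w k, Category.assoc, pullback.condition_assoc, Over.w h]
    simp
  · change (ξ ≫ pullback.fst k.left h.left) ≫ k.left = (ξ ≫ pullback.snd k.left h.left) ≫ h.left
    rw [Category.assoc, Category.assoc, pullback.condition]

/-- A family of étale morphisms covering `X` generates a covering sieve. -/
theorem mem_J (X : Over S) (R : Sieve X)
    (hR : ∀ x : X.left, ∃ (U : Over S) (g : U ⟶ X), Etale g.left ∧ R g ∧ x ∈ Set.range g.left.base) :
    R ∈ QuotSh.J Scheme.etalePrecoverage S X := by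
  choose U g hg hR hx using hR
  rw [GrothendieckTopology.mem_over_iff]
  refine GrothendieckTopology.superset_covering _ ?_ (Precoverage.generate_mem_toGrothendieck
    (R := Presieve.ofArrows _ (fun x => (g x).left)) ?_)
  · rw [Sieve.generate_le_iff]
    rintro _ _ ⟨x⟩
    exact Sieve.image_mem_functorPushforward (Over.forget S) _ (hR x)
  · exact (Scheme.ofArrows_mem_precoverage_iff @Etale).2 ⟨fun x => ⟨x, hx x⟩, hg⟩

variable (F) in
lemma isSheaf_types :
    Presieve.IsSheaf (QuotSh.J Scheme.etalePrecoverage S) ((Gs F).obj ⋙ forget AddCommGrpCat.{u + 1}) :=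
  (isSheaf_iff_isSheaf_of_type _ _).1
    ((sheafCompose _ (forget AddCommGrpCat.{u + 1})).obj (Gs F)).property

/-- Sections agreeing étale locally are equal. -/
theorem ext_cover {X : Over S} (s t : gv F X)
    (h : ∀ x : X.left, ∃ (U : Over S) (g : U ⟶ X), Etale g.left ∧ x ∈ Set.range g.left.base ∧
      rs F g s = rs F g t) : s = t := by
  let R : Sieve X :=
    { arrows := fun U g => rs F g s = rs F g t
      downward_closed := fun {U V g} hg l => by
        rw [← rs_rs g l _ rfl s, ← rs_rs g l _ rfl t, hg] }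
  have hR : R ∈ QuotSh.J Scheme.etalePrecoverage S X := mem_J X R fun x => by
    obtain ⟨U, g, h1, h2, h3⟩ := h x
    exact ⟨U, g, h1, h3, h2⟩
  exact (isSheaf_types F R hR).isSeparatedFor.ext fun U g hg => hg

/-- Sections agreeing at all geometric points are equal. -/
theorem ext_geomPt {X : Over S} (s t : gv F X)
    (h : ∀ (K : Type u) [Field K] [IsSepClosed K] (q : Spec (CommRingCat.of K) ⟶ S) (p : Over.mk q ⟶ X),
      rs F p s = rs F p t) : s = t := by
  refine ext_cover s t fun x => ?_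
  obtain ⟨K, _, _, q, p, rfl⟩ := exists_geomPt X x
  obtain ⟨U, g, z, hg, hz, he⟩ := exists_nbhd_eq p s t (h K q p)
  exact ⟨U, g, hg, ⟨z.left.base default,
    by rw [← hz, Over.comp_left, Scheme.Hom.comp_apply]⟩, he⟩

/-- Restriction along a surjective morphism is injective. -/
theorem injective_rs {X Y : Over S} (k : Y ⟶ X) [Surjective k.left] : Function.Injective (rs F k) := by
  intro s t e
  refine ext_geomPt s t fun K _ _ q p => ?_
  obtain ⟨K', _, _, q', p', ι, hp⟩ := exists_lift k p
  refine (bijective_rs_field ι).1 ?_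
  rw [rs_rs p ι _ rfl, rs_rs p ι _ rfl, ← hp, ← rs_rs k p' _ rfl, ← rs_rs k p' _ rfl, e]

/-- The points near which two sections agree. -/
def agree {X : Over S} (s t : gv F X) : Set X.left :=
  {x | ∃ (U : Over S) (g : U ⟶ X), Etale g.left ∧ x ∈ Set.range g.left.base ∧ rs F g s = rs F g t}

theorem isOpen_agree {X : Over S} (s t : gv F X) : IsOpen (agree s t) := by
  refine isOpen_iff_forall_mem_open.2 ?_
  rintro x ⟨U, g, hg, hx, he⟩
  haveI := hg
  exact ⟨_, fun y hy => ⟨U, g, hg, hy, he⟩, g.left.isOpenMap.isOpen_range, hx⟩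

theorem agree_iff {X : Over S} (s t : gv F X) {q : Spec (CommRingCat.of Ω) ⟶ S} (h : Over.mk q ⟶ X) :
    h.left.base default ∈ agree s t ↔ rs F h s = rs F h t := by
  constructor
  · rintro ⟨U, g, hg, ⟨u, hu⟩, he⟩
    haveI := hg
    obtain ⟨l, hl, -⟩ := Scheme.exists_fac_of_etale_of_isSepClosed g.left h.left u hu
    let l' : Over.mk q ⟶ U := Over.homMk l (show l ≫ U.hom = q by
      rw [← Over.w g, reassoc_of% hl, Over.w h]; rfl)
    have hl' : l' ≫ g = h := Over.OverMorphism.ext hl
    rw [← rs_rs g l' h hl', ← rs_rs g l' h hl', he]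
  · intro e
    obtain ⟨U, g, z, hg, hz, he⟩ := exists_nbhd_eq h s t e
    exact ⟨U, g, hg, ⟨z.left.base default, by rw [← hz, Over.comp_left, Scheme.Hom.comp_apply]⟩, he⟩

/-- Descent of sections along a flat, surjective, quasi-compact morphism. -/
theorem existsUnique_descend {X Y : Over S} (k : Y ⟶ X) [Flat k.left] [Surjective k.left]
    [QuasiCompact k.left] (s' : gv F Y)
    (hs : ∀ ⦃Z : Over S⦄ (p₁ p₂ : Z ⟶ Y), p₁ ≫ k = p₂ ≫ k → rs F p₁ s' = rs F p₂ s') :
    ∃! s : gv F X, rs F k s = s' := by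
  -- the sieve of morphisms over which the section descends
  let R : Sieve X :=
    { arrows := fun Z b => ∃ t : gv F Z, ∀ ⦃W : Over S⦄ (c : W ⟶ Z) (y : W ⟶ Y),
        y ≫ k = c ≫ b → rs F y s' = rs F c t
      downward_closed := fun {Z Z' b} hb l => by
        obtain ⟨t, ht⟩ := hb
        exact ⟨rs F l t, fun W c y hy => by
          rw [rs_rs l c _ rfl]; exact ht _ y (by rw [hy, Category.assoc])⟩ }
  have huniq : ∀ {Z : Over S} (b : Z ⟶ X) (t t' : gv F Z),
      (∀ ⦃W : Over S⦄ (c : W ⟶ Z) (y : W ⟶ Y), y ≫ k = c ≫ b → rs F y s' = rs F c t) →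
      (∀ ⦃W : Over S⦄ (c : W ⟶ Z) (y : W ⟶ Y), y ≫ k = c ≫ b → rs F y s' = rs F c t') → t = t' := by
    intro Z b t t' ht ht'
    let W : Over S := Over.mk (pullback.snd k.left b.left ≫ Z.hom)
    let c : W ⟶ Z := Over.homMk (pullback.snd k.left b.left) rfl
    let y : W ⟶ Y := Over.homMk (pullback.fst k.left b.left) (by
      change pullback.fst k.left b.left ≫ Y.hom = pullback.snd k.left b.left ≫ Z.hom
      rw [← Over.w k, pullback.condition_assoc, Over.w b])
    have hy : y ≫ k = c ≫ b := Over.OverMorphism.ext pullback.condition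
    haveI : Surjective c.left :=
      MorphismProperty.pullback_snd (P := @Surjective) k.left b.left inferInstance
    exact injective_rs c ((ht c y hy).symm.trans (ht' c y hy))
  have hR : R ∈ QuotSh.J Scheme.etalePrecoverage S X := by
    refine mem_J X R fun x => ?_
    obtain ⟨K, _, _, q, p, rfl⟩ := exists_geomPt X x
    obtain ⟨K', _, _, q', p', ι, hp⟩ := exists_lift k p
    obtain ⟨c, hc⟩ := (bijective_rs_field ι).2 (rs F p' s')
    obtain ⟨U, g, z, a, hg, hz, ha⟩ := exists_nbhd_rep p c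
    haveI := hg
    let U' : Over S := Over.mk (pullback.fst g.left k.left ≫ U.hom)
    let π : U' ⟶ U := Over.homMk (pullback.fst g.left k.left) rfl
    let π₂ : U' ⟶ Y := Over.homMk (pullback.snd g.left k.left) (by
      change pullback.snd g.left k.left ≫ Y.hom = pullback.fst g.left k.left ≫ U.hom
      rw [← Over.w k, ← pullback.condition_assoc, Over.w g])
    have hπ : π ≫ g = π₂ ≫ k := Over.OverMorphism.ext pullback.condition
    -- lifting morphisms to `U'`
    have hlift : ∀ {Z : Over S} (b : Z ⟶ U) (y : Z ⟶ Y), b ≫ g = y ≫ k →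
        ∃ d : Z ⟶ U', d ≫ π = b ∧ d ≫ π₂ = y := by
      intro Z b y e
      have e' : b.left ≫ g.left = y.left ≫ k.left := congrArg CommaMorphism.left e
      exact ⟨Over.homMk (pullback.lift b.left y.left e') (by
          change _ ≫ pullback.fst g.left k.left ≫ U.hom = _
          rw [pullback.lift_fst_assoc, Over.w b]),
        Over.OverMorphism.ext (pullback.lift_fst _ _ _),
        Over.OverMorphism.ext (pullback.lift_snd _ _ _)⟩
    let A : Set U'.left := agree (rs F π₂ s') (rs F π a)
    have hsat : ∀ u₁ u₂, π.left.base u₁ = π.left.base u₂ → u₁ ∈ A → u₂ ∈ A := by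
      intro u₁ u₂ hu h₁
      obtain ⟨w, hw₁, hw₂⟩ := Scheme.Pullback.exists_preimage_pullback
        (f := π.left) (g := π.left) u₁ u₂ hu
      let W : Over S := Over.mk (pullback.fst π.left π.left ≫ U'.hom)
      let d₁ : W ⟶ U' := Over.homMk (pullback.fst π.left π.left) rfl
      let d₂ : W ⟶ U' := Over.homMk (pullback.snd π.left π.left) (by
        change pullback.snd π.left π.left ≫ π.left ≫ U.hom = pullback.fst π.left π.left ≫ π.left ≫ U.hom
        rw [pullback.condition_assoc])
      have hd : d₁ ≫ π = d₂ ≫ π := Over.OverMorphism.ext pullback.condition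
      obtain ⟨L, _, _, qL, e, he⟩ := exists_geomPt W w
      have m₁ : (e ≫ d₁).left.base default = u₁ := by
        rw [Over.comp_left, Scheme.Hom.comp_apply, he]; exact hw₁
      have m₂ : (e ≫ d₂).left.base default = u₂ := by
        rw [Over.comp_left, Scheme.Hom.comp_apply, he]; exact hw₂
      rw [← m₁] at h₁
      rw [← m₂]
      have v₁ := (agree_iff (rs F π₂ s') (rs F π a) (e ≫ d₁)).1 h₁
      refine (agree_iff (rs F π₂ s') (rs F π a) (e ≫ d₂)).2 ?_
      rw [rs_rs _ (e ≫ d₁) _ rfl, rs_rs _ (e ≫ d₁) _ rfl] at v₁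
      rw [rs_rs _ (e ≫ d₂) _ rfl, rs_rs _ (e ≫ d₂) _ rfl]
      have hd' : (e ≫ d₁) ≫ π = (e ≫ d₂) ≫ π := by rw [Category.assoc, hd, Category.assoc]
      refine (hs _ ((e ≫ d₁) ≫ π₂) ?_).trans (v₁.trans (by rw [hd']))
      simp only [Category.assoc, ← hπ]
      rw [reassoc_of% hd]
    haveI : Flat π.left := MorphismProperty.pullback_fst (P := @Flat) g.left k.left inferInstance
    haveI : QuasiCompact π.left :=
      MorphismProperty.pullback_fst (P := @QuasiCompact) g.left k.left inferInstance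
    haveI : Surjective π.left :=
      MorphismProperty.pullback_fst (P := @Surjective) g.left k.left inferInstance
    have hpre : π.left.base ⁻¹' (π.left.base '' A) = A :=
      Set.Subset.antisymm (fun u ⟨v, hv, e⟩ => hsat v u e hv) (Set.subset_preimage_image _ _)
    let O : U.left.Opens := ⟨π.left.base '' A, by
      rw [← (Flat.isQuotientMap_of_surjective π.left).isOpen_preimage, hpre]
      exact isOpen_agree _ _⟩
    let UO : Over S := Over.mk (O.ι ≫ U.hom)
    let j : UO ⟶ U := Over.homMk O.ι rfl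
    refine ⟨UO, j ≫ g, ?_, ⟨rs F j a, fun W b y hy => ?_⟩, ?_⟩
    · rw [Over.comp_left]; exact inferInstanceAs (Etale (O.ι ≫ g.left))
    · refine ext_geomPt _ _ fun L _ _ qL e => ?_
      obtain ⟨d, hd₁, hd₂⟩ := hlift (e ≫ b ≫ j) (e ≫ y) (by
        simp only [Category.assoc, hy])
      have hmem : d.left.base default ∈ A := by
        rw [← hpre, Set.mem_preimage]
        have : π.left.base (d.left.base default) = O.ι.base ((e ≫ b).left.base default) := by
          rw [← Scheme.Hom.comp_apply]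
          change (d ≫ π).left.base default = _
          rw [hd₁]
          rfl
        rw [this]
        exact ((e ≫ b).left.base default).2
      have v := (agree_iff (rs F π₂ s') (rs F π a) d).1 hmem
      rw [rs_rs π₂ d _ hd₂, rs_rs π d _ hd₁] at v
      rw [rs_rs y e _ rfl, rs_rs b e _ rfl, rs_rs j (e ≫ b) _ (Category.assoc _ _ _)]
      exact v
    · obtain ⟨d, hd₁, hd₂⟩ := hlift (ι ≫ z) p' (by rw [Category.assoc, hz, hp])
      have hdA : d.left.base default ∈ A := by
        refine (agree_iff (rs F π₂ s') (rs F π a) d).2 ?_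
        rw [rs_rs π₂ d _ hd₂, rs_rs π d _ hd₁, ← rs_rs z ι _ rfl, ha, hc]
      have hu : (ι ≫ z).left.base default ∈ O := ⟨_, hdA, by
        rw [← Scheme.Hom.comp_apply, ← Over.comp_left, hd₁]⟩
      refine ⟨⟨_, hu⟩, ?_⟩
      change g.left.base (O.ι.base ⟨(ι ≫ z).left.base default, hu⟩) = p.left.base default
      have e0 : (ι ≫ z).left.base default = z.left.base default := by
        rw [Over.comp_left, Scheme.Hom.comp_apply]
        exact congrArg _ (Subsingleton.elim (α := ↥(Spec (CommRingCat.of K))) _ _)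
      rw [show O.ι.base ⟨(ι ≫ z).left.base default, hu⟩ = z.left.base default from e0,
        ← Scheme.Hom.comp_apply, ← Over.comp_left, hz]
  let x : Presieve.FamilyOfElements ((Gs F).obj ⋙ forget AddCommGrpCat.{u + 1}) R.arrows :=
    fun Z b hb => hb.choose
  have hx : x.Compatible := by
    intro Y₁ Y₂ Z g₁ g₂ f₁ f₂ h₁ h₂ e
    exact huniq (g₁ ≫ f₁) _ _
      (fun W c y hy => by
        change _ = rs F c (rs F g₁ h₁.choose)
        rw [rs_rs g₁ c _ rfl]
        exact h₁.choose_spec _ y (by rw [hy, Category.assoc]))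
      (fun W c y hy => by
        change _ = rs F c (rs F g₂ h₂.choose)
        rw [rs_rs g₂ c _ rfl]
        exact h₂.choose_spec _ y (by rw [hy, Category.assoc, e]))
  obtain ⟨s, hsm, -⟩ := isSheaf_types F R hR x hx
  refine ⟨s, ?_, fun s₂ h₂ => injective_rs k (h₂.trans ?_)⟩ <;>
  · have key : rs F k s = s' := by
      have hR' := (QuotSh.J Scheme.etalePrecoverage S).pullback_stable k hR
      refine (isSheaf_types F _ hR').isSeparatedFor.ext fun Z b hb => ?_
      change rs F b (rs F k s) = rs F b s'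
      rw [rs_rs k b _ rfl]
      exact (hsm (b ≫ k) hb).trans ((hb.choose_spec (𝟙 Z) b (Category.id_comp _).symm).trans
        (rs_id _)).symm
    first | exact key | exact key.symm

open Groth.Agent.H13Desc

/-- A presheaf on `Over S` seen on the slice of a terminal object. -/
theorem isSheafFor_forget_iff {C : Type*} [Category* C] (P : Cᵒᵖ ⥤ Type (u + 1)) {U : C}
    {Y : Over U} (R₂ : Sieve Y) :
    Presieve.IsSheafFor ((Over.forget U).op ⋙ P) R₂.arrows ↔
      Presieve.IsSheafFor P (Sieve.overEquiv Y R₂).arrows := by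
  have hfac : ∀ {Z : Over U} (m : Z ⟶ Y), ∃ c : Z ⟶ Over.mk (m.left ≫ Y.hom),
      c.left = 𝟙 _ ∧ c ≫ Over.homMk m.left = m := fun {Z} m =>
    ⟨Over.homMk (𝟙 _) (by change 𝟙 _ ≫ m.left ≫ Y.hom = Z.hom; rw [Category.id_comp, Over.w m]),
      rfl, Over.OverMorphism.ext (Category.id_comp _)⟩
  constructor
  · intro h z hz
    let x : Presieve.FamilyOfElements ((Over.forget U).op ⋙ P) R₂.arrows := fun Z m hm =>
      z m.left (Sieve.image_mem_functorPushforward (Over.forget U) _ hm)
    have hx : x.Compatible := fun Y₁ Y₂ Z g₁ g₂ f₁ f₂ h₁ h₂ e =>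
      hz g₁.left g₂.left _ _ (congrArg CommaMorphism.left e)
    obtain ⟨t, ht, htu⟩ := h x hx
    exact ⟨t, fun Z k hk => ht (Over.homMk k : Over.mk (k ≫ Y.hom) ⟶ Y) ((Sieve.overEquiv_iff _ _).1 hk),
      fun t' ht' => htu t' fun Z m hm => ht' m.left _⟩
  · intro h x hx
    let z : Presieve.FamilyOfElements P (Sieve.overEquiv Y R₂).arrows := fun Z k hk =>
      x (Over.homMk k : Over.mk (k ≫ Y.hom) ⟶ Y) ((Sieve.overEquiv_iff _ _).1 hk)
    have hz : z.Compatible := fun Y₁ Y₂ Z g₁ g₂ f₁ f₂ h₁ h₂ e =>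
      hx (Over.homMk g₁ rfl : Over.mk (g₁ ≫ f₁ ≫ Y.hom) ⟶ Over.mk (f₁ ≫ Y.hom))
        (Over.homMk g₂ (by
          change g₂ ≫ f₂ ≫ Y.hom = g₁ ≫ f₁ ≫ Y.hom
          rw [reassoc_of% e]) : Over.mk (g₁ ≫ f₁ ≫ Y.hom) ⟶ Over.mk (f₂ ≫ Y.hom)) _ _
        (Over.OverMorphism.ext e)
    obtain ⟨t, ht, htu⟩ := h z hz
    refine ⟨t, fun Z m hm => ?_, fun t' ht' => htu t' fun Z k hk =>
      ht' (Over.homMk k : Over.mk (k ≫ Y.hom) ⟶ Y) ((Sieve.overEquiv_iff _ _).1 hk)⟩
    obtain ⟨c, hc, hcm⟩ := hfac m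
    have e1 := hx c (𝟙 Z) ((Sieve.overEquiv_iff _ _).1
      (Sieve.image_mem_functorPushforward (Over.forget U) _ hm)) hm
      (hcm.trans (Category.id_comp m).symm)
    refine (ht m.left (Sieve.image_mem_functorPushforward (Over.forget U) _ hm)).trans ?_
    refine Eq.trans ?_ (e1.trans (Functor.map_id_apply ((Over.forget U).op ⋙ P) _ (x m hm)))
    change _ = P.map c.left.op _
    rw [hc, op_id]
    exact (Functor.map_id_apply P _ _).symm

/-- The descent of sections, as a sheaf condition. -/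
theorem isSheafFor_singleton {X Y : Over S} (k : Y ⟶ X) [Flat k.left] [Surjective k.left]
    [QuasiCompact k.left] :
    Presieve.IsSheafFor ((Gs F).obj ⋙ forget AddCommGrpCat.{u + 1}) (Presieve.singleton k) :=
  Presieve.isSheafFor_singleton.2 fun s' hs => existsUnique_descend k s' fun _ p₁ p₂ e => hs p₁ p₂ e

variable (F) in
theorem isSheaf_fpqc : Presheaf.IsSheaf (QuotSh.J Scheme.fpqcPrecoverage S) (Gs F).obj := by
  rw [Presheaf.isSheaf_iff_isSheaf_forget _ _ (forget AddCommGrpCat.{u + 1}),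
    isSheaf_iff_isSheaf_of_type]
  let P := (Gs F).obj ⋙ forget AddCommGrpCat.{u + 1}
  let U : Over S := Over.mk (𝟙 S)
  let G := (Over.forget U).op ⋙ P
  have key : ∀ {T : Scheme.{u}} (R₀ : Sieve T),
      Presieve.IsSheafFor (yoneda.obj U.left) R₀.arrows →
      (∀ q : T ⟶ S, Presieve.IsSheafFor P ((Sieve.overEquiv (Over.mk q)).symm R₀).arrows) →
      Presieve.IsSheafFor (SigmaPsh.sigma G) R₀.arrows := by
    intro T R₀ hy hR
    refine SigmaPsh.isSheafFor_sigma R₀ hy fun p => ?_
    rw [isSheafFor_forget_iff, OrderIso.apply_symm_apply]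
    exact hR (p ≫ U.hom)
  have hH : Presieve.IsSheaf Scheme.fpqcTopology (SigmaPsh.sigma G) := by
    rw [Scheme.fpqcTopology_eq_propQCTopology, isSheaf_type_propQCTopology_iff]
    refine ⟨fun T R₀ hR₀ => key R₀ ?_ fun q => ?_, fun {A B} φ hflat hsurj => ?_⟩
    · exact GrothendieckTopology.Subcanonical.isSheaf_of_isRepresentable (yoneda.obj U.left) _ hR₀
    · refine isSheaf_types F _ ?_
      rw [GrothendieckTopology.mem_over_iff, OrderIso.apply_symm_apply]
      exact Scheme.zariskiTopology_le_etaleTopology _ hR₀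
    · rw [Presieve.isSheafFor_iff_generate]
      refine key _ ?_ fun q => ?_
      · refine GrothendieckTopology.Subcanonical.isSheaf_of_isRepresentable
          (J := Scheme.fpqcTopology) (yoneda.obj U.left) _ ?_
        exact Scheme.Hom.generate_singleton_mem_propQCTopology (Spec.map φ) hflat
      · let f : Over.mk (Spec.map φ ≫ q) ⟶ Over.mk q := Over.homMk (Spec.map φ)
        haveI : Flat f.left := hflat
        haveI : Surjective f.left := hsurj
        haveI : QuasiCompact f.left := inferInstanceAs (QuasiCompact (Spec.map φ))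
        have hp := (Presieve.isSheafFor_iff_generate _).1 (isSheafFor_singleton (F := F) f)
        have e : (Sieve.overEquiv (Over.mk q)).symm
            (Sieve.generate (Presieve.singleton (Spec.map φ))) =
            Sieve.generate (Presieve.singleton f) := ?_
        · rw [e]; exact hp
        refine Sieve.ext fun Y₀ g => ?_
        rw [Sieve.overEquiv_symm_iff]
        constructor
        · rintro ⟨W, a, _, ⟨⟩, e⟩
          have hY : a ≫ Spec.map φ ≫ q = Y₀.hom := by
            rw [← Category.assoc, e]; exact Over.w g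
          refine ⟨_, (Over.homMk a hY : Y₀ ⟶ Over.mk (Spec.map φ ≫ q)), _, ⟨⟩, ?_⟩
          ext; exact e
        · rintro ⟨W, a, _, ⟨⟩, rfl⟩
          exact ⟨_, a.left, _, ⟨⟩, rfl⟩
  intro X R hR
  let T₂ : Over U := Over.mk (Over.homMk X.hom (Category.comp_id _) : X ⟶ U)
  have h₁ : Sieve.overEquiv T₂ ((Sieve.overEquiv T₂).symm R) = R := OrderIso.apply_symm_apply _ _
  have hR₀ := (GrothendieckTopology.mem_over_iff ..).1 hR
  rw [← h₁]
  refine (isSheafFor_forget_iff P _).1 (SigmaPsh.isSheafFor_of_sigma _ ?_ ?_)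
  · rw [h₁]
    exact (GrothendieckTopology.Subcanonical.isSheaf_of_isRepresentable (J := Scheme.fpqcTopology)
      (yoneda.obj U.left) _ hR₀).isSeparatedFor
  · rw [h₁]
    exact hH _ hR₀

/-- Sections over an object, and the fpqc sheaf condition. -/
theorem main (S : Scheme.{u}) (F : EtCoh.Ab S) :
    (∀ T : Over S, Nonempty (((BigSite.piEtPull Scheme.etalePrecoverage S).obj F).obj.obj (op T) ≅
      ((EtCoh.pull T.hom).obj F).obj.obj (op (EtCoh.top T.left)))) ∧
    Presheaf.IsSheaf (QuotSh.J Scheme.fpqcPrecoverage S)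
      ((BigSite.piEtPull Scheme.etalePrecoverage S).obj F).obj := by
  refine ⟨fun T => ⟨?_⟩, isSheaf_fpqc F⟩
  let i : (Over.map T.hom).obj ((EtFppf.a T.left).obj (EtCoh.top T.left)) ≅ T :=
    Over.isoMk (Iso.refl _) (show 𝟙 _ ≫ T.hom = 𝟙 _ ≫ T.hom from rfl)
  exact (Gs F).obj.mapIso i.op ≪≫
    ((sheafToPresheaf _ _).mapIso (H13Desc.BigRes.resPiIso T.hom F)).app (op (EtCoh.top T.left))

end Groth.Agent.H13BigSite.PiFpqc
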