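import Groth.Agent.H12AlgSp.Points
import Groth.Agent.H12AlgSp.EtNbhd
import Groth.Agent.H13AlgSp.Cover
import Groth.Prelude.Def_AlgSpCov
import Groth.Prelude.Def_AlgSpEt

/-!
The small etale site of an algebraic space inside the big etale site.
-/

universe u

open CategoryTheory CategoryTheory.Limits AlgebraicGeometry Opposite
open AlgSp Groth.Agent.H12AlgSp

set_option backward.isDefEq.respectTransparency false
set_option linter.style.haveILetI false

namespace Groth.Agent.H13BigSite

variable {S : Scheme.{u}}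

/-- Covering sieves of the big etale site contain etale neighbourhoods of every point of a scheme over the base. -/
theorem exists_lift_of_mem_spacesTop {Z : Space S} {R : Sieve Z}
    (hR : R ∈ spacesTop S IsEtaleMor Z) : ∀ (V : Over S) (φ : (ofScheme S).obj V ⟶ Z) (v : ↥V.left),
      ∃ (V' : Over S) (k : V' ⟶ V) (v' : ↥V'.left), Etale k.left ∧ k.left v' = v ∧
        R ((ofScheme S).map k ≫ φ) := by
  induction hR with
  | of X T hT =>
    intro V φ v
    obtain ⟨Y, g, hg, hv⟩ := hT.2 (Points.ofPt φ.hom v)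
    obtain ⟨y, hy⟩ := hv
    obtain ⟨W, b, hbe, hbs⟩ := Y.property.atlas
    obtain ⟨w, rfl⟩ := surjective_ofPt_of_repWith (P := @Surjective) le_rfl hbs y
    have hbg : RepWith @Etale (b ≫ g.hom) := hT.1 g hg b hbe
    obtain ⟨V', snd, fst, sq⟩ := hbg.1 φ.hom
    obtain ⟨p, -, hp⟩ := exists_point_of_isPullback sq (Points.ofScheme W w) (Points.ofScheme V v) (by
      rw [← Points.ofPt_eq_map_ofScheme, ← Points.ofPt_eq_map_ofScheme, ← Points.map_ofPt]
      exact hy)
    obtain ⟨v', rfl⟩ := (Points.schemeEquiv V').surjective p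
    refine ⟨V', snd, v', hbg.2 φ.hom fst snd sq, ?_, ?_⟩
    · have h : Points.toScheme V (Points.ofPt ((yon S).map snd) v') = v := by
        rw [Points.ofPt_eq_map_ofScheme]
        exact (congrArg (Points.toScheme V) hp).trans (Points.toScheme_ofScheme V v)
      rwa [Points.toScheme_ofPt] at h
    · obtain ⟨l, hl⟩ := (yon S).map_surjective fst
      refine ⟨Y, ObjectProperty.homMk (fst ≫ b), g, hg, ?_⟩
      ext : 1
      exact (Category.assoc _ _ _).trans sq.w
  | top X => exact fun V φ v => ⟨V, 𝟙 V, v, inferInstanceAs (Etale (𝟙 V.left)), rfl, trivial⟩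
  | pullback X T _ Y f ih =>
    intro V φ v
    obtain ⟨V', k, v', hk, hv, h⟩ := ih V (φ ≫ f) v
    exact ⟨V', k, v', hk, hv, by simpa using h⟩
  | transitive X T T' _ _ ih₁ ih₂ =>
    intro V φ v
    obtain ⟨V', k, v', hk, hv, h⟩ := ih₁ V φ v
    obtain ⟨V'', k', v'', hk', hv', h'⟩ := ih₂ h V' (𝟙 _) v'
    haveI := hk
    haveI := hk'
    refine ⟨V'', k' ≫ k, v'', inferInstanceAs (Etale (k'.left ≫ k.left)), ?_, ?_⟩
    · simp [hv', hv]
    · simpa using h'

variable {X Y : Space S}

/-- The functor from the small etale site of `Y` to the big etale site over `X`. -/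
noncomputable abbrev G (f : Y ⟶ X) : EtOver Y.obj ⥤ Over X :=
  EtOver.toEtSpOver Y ⋙ ObjectProperty.ι (fun E : Over Y => IsEtaleMor E.hom.hom) ⋙ Over.map f

theorem isCocontinuous_G (f : Y ⟶ X) :
    (G f).IsCocontinuous (etTop Y.obj) (spacesTopOver IsEtaleMor X) := ⟨fun {U T} hT => by
  rw [GrothendieckTopology.mem_over_iff] at hT
  choose V k v hk hv hR using fun u => exists_lift_of_mem_spacesTop hT U.obj.left (𝟙 _) u
  let E : ↥U.obj.left.left → EtOver Y.obj := fun u => EtOver.mk ((yon S).map (k u) ≫ U.obj.hom)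
    ((repWith_isMultiplicative (S := S) @Etale).comp_mem _ _ ((repWith_yon_map_iff _ _).2 (hk u)) U.property)
  let g : ∀ u, E u ⟶ U := fun u => EtOver.homMk (k u) rfl
  refine (etTop Y.obj).superset_covering ?_
    (ofArrows_mem_etTop E g fun u => ⟨u, v u, hv u⟩)
  rintro E' h ⟨_, a, _, ⟨u⟩, rfl⟩
  refine Sieve.downward_closed _ ?_ a
  show T ((G f).map (g u))
  have h' := (Sieve.overEquiv_iff _ _).1 (hR u)
  let i : (G f).obj (E u) ⟶ Over.mk (((ofScheme S).map (k u) ≫ 𝟙 _) ≫ ((G f).obj U).hom) :=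
    Over.homMk (𝟙 _) (by ext : 1; simp [G, E, EtOver.toEtSpOver]; rfl)
  convert T.downward_closed h' i
  ext : 2
  simp [G, g, i, EtOver.toEtSpOver]⟩

theorem coverPreserving_G (f : Y ⟶ X) :
    CoverPreserving (etTop Y.obj) (spacesTopOver IsEtaleMor X) (G f) := ⟨fun {U R} hR => by
  rw [GrothendieckTopology.mem_over_iff]
  choose E g hg x hx using jointly_surjective_of_mem_etTop hR
  refine (spacesTop S IsEtaleMor).superset_covering ?_ (Precoverage.generate_mem_toGrothendieck
    ((ofArrows_mem_spacesPre_iff IsEtaleMor (fun u => (ofScheme S).obj (E u).obj.left)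
      (fun u => (ofScheme S).map (g u).hom.left)).2 ⟨fun u => ?_, fun p => ?_⟩))
  · rintro Z _ ⟨_, a, _, ⟨u⟩, rfl⟩
    refine Sieve.downward_closed _ ?_ a
    exact ⟨(G f).obj (E u), (G f).map (g u), 𝟙 _, Sieve.image_mem_functorPushforward _ _ (hg u),
      (Category.id_comp _).symm⟩
  · exact (isEtaleMor_yon_map_iff (g u).hom.left).2 (EtOver.etale_left (g u))
  · obtain ⟨u, rfl⟩ := (Points.schemeEquiv U.obj.left).surjective p
    refine ⟨u, Points.ofScheme _ (x u), (Points.schemeEquiv U.obj.left).symm.injective ?_⟩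
    refine ((congrArg (Points.toScheme _) (Points.ofPt_eq_map_ofScheme _ (x u)).symm).trans
      (Points.toScheme_ofPt (g u).hom.left (x u))).trans ?_
    exact (hx u).trans (Points.toScheme_ofScheme _ u).symm⟩

theorem compatiblePreserving_G (f : Y ⟶ X) :
    CompatiblePreserving.{u + 2} (spacesTopOver IsEtaleMor X) (G f) := ⟨by
  intro ℱ Z T x hx Y₁ Y₂ W f₁ f₂ g₁ g₂ hg₁ hg₂ e
  have sq := (IsPullback.of_hasPullback g₁.hom.left g₂.hom.left).map (yon S)
  have e' : f₁.left.hom ≫ (yon S).map g₁.hom.left = f₂.left.hom ≫ (yon S).map g₂.hom.left :=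
    congrArg (fun t => t.left.hom) e
  let l : W ⟶ (G f).obj (EtOver.pullbackObj g₁ g₂) :=
    Over.homMk (ObjectProperty.homMk (sq.lift f₁.left.hom f₂.left.hom e')) (by
      ext : 1
      have hw := congrArg (fun t => t.hom) (Over.w f₁)
      simp [G, EtOver.toEtSpOver, EtOver.pullbackObj] at hw ⊢
      exact hw)
  have h₁ : f₁ = l ≫ (G f).map (EtOver.pullbackFst g₁ g₂) := by
    ext : 2
    simp [G, l, EtOver.toEtSpOver, EtOver.pullbackFst]
    exact (sq.lift_fst _ _ _).symm
  have h₂ : f₂ = l ≫ (G f).map (EtOver.pullbackSnd g₁ g₂) := by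
    ext : 2
    simp [G, l, EtOver.toEtSpOver, EtOver.pullbackSnd]
    exact (sq.lift_snd _ _ _).symm
  have hc := hx (EtOver.pullbackFst g₁ g₂) (EtOver.pullbackSnd g₁ g₂) hg₁ hg₂
    (EtOver.hom_ext _ _ pullback.condition)
  dsimp only [Functor.comp_map, Functor.op_map, Quiver.Hom.unop_op] at hc
  rw [h₁, h₂, op_comp, op_comp, Functor.map_comp_apply, Functor.map_comp_apply]
  exact congrArg (ℱ.obj.map l.op) hc⟩

end Groth.Agent.H13BigSite
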