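import Groth.Agent.H02CA.Adeq.Big.ZarCompare

/-!
Cohomology on the big and on the small Zariski site.
-/

set_option autoImplicit false
set_option backward.isDefEq.respectTransparency false
set_option linter.style.haveILetI false

universe u

open CategoryTheory Opposite Limits AlgebraicGeometry MorphismProperty CategoryTheory.Abelian

namespace Groth.Agent.H13BigSite.ZarH

open Groth.Agent.H02CA.Adq (zarHom_ext)

variable {S : Scheme.{u}} [BigSite.ZarCont Scheme.zariskiPrecoverage S]

theorem isLocallySurjective_resZar {F G : BigSite.Ab Scheme.zariskiPrecoverage S} (g : F ⟶ G) [Epi g] :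
    Sheaf.IsLocallySurjective ((BigSite.resZar Scheme.zariskiPrecoverage S).map g) := by
  haveI : Sheaf.IsLocallySurjective g := (Sheaf.isLocallySurjective_iff_epi' (φ := g)).2 inferInstance
  refine ⟨fun {U'} s x hx => ?_⟩
  obtain ⟨U, rfl⟩ : ∃ U : S.Opens, U = U' := ⟨U', rfl⟩
  have hmem := (GrothendieckTopology.mem_over_iff _ _).1
    (Presheaf.imageSieve_mem (QuotSh.J Scheme.zariskiPrecoverage S) g.hom (U := op ((BigSite.zarIncl S).obj U)) s)
  rw [Precoverage.mem_toGrothendieck_iff_of_isStableUnderComposition] at hmem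
  obtain ⟨R, hR, hle⟩ := hmem
  obtain ⟨κ, Ws, fs, rfl⟩ := R.exists_eq_ofArrows
  rw [Scheme.ofArrows_mem_precoverage_iff] at hR
  obtain ⟨i, w, hw⟩ := hR.1 (⟨x, hx⟩ : U.toScheme)
  let W := Ws i
  let h := fs i
  have hh : Presieve.ofArrows Ws fs h := ⟨i⟩
  haveI : IsOpenImmersion h := hR.2 i
  let O : S.Opens := U.ι ''ᵁ h.opensRange
  have hxO : x ∈ O := ⟨⟨x, hx⟩, ⟨w, hw⟩, rfl⟩
  have hOU : O ≤ U := U.ι_image_le h.opensRange
  refine ⟨O, homOfLE hOU, ?_, hxO⟩
  have key := (Sieve.overEquiv_iff _ _).1 (hle _ _ hh)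
  obtain ⟨t, ht⟩ := key
  let V : Over S := Over.mk (h ≫ ((BigSite.zarIncl S).obj U).hom)
  obtain ⟨l, hl⟩ : ∃ l : O.toScheme ⟶ W, l ≫ h ≫ U.ι = O.ι := by
    have hr : Set.range O.ι ⊆ Set.range (h ≫ U.ι) := by
      rw [Scheme.Opens.range_ι]
      rintro _ ⟨z, ⟨y, rfl⟩, rfl⟩
      exact ⟨y, rfl⟩
    exact ⟨IsOpenImmersion.lift (h ≫ U.ι) O.ι hr, IsOpenImmersion.lift_fac _ _ _⟩
  let m : (BigSite.zarIncl S).obj O ⟶ V := Over.homMk l hl
  refine ⟨F.obj.map m.op t, ?_⟩
  refine (NatTrans.naturality_apply g.hom m.op t).trans ((congrArg (G.obj.map m.op) ht).trans ?_)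
  rw [← ConcreteCategory.comp_apply, ← Functor.map_comp, ← op_comp]
  exact congrArg (fun k => G.obj.map k.op s) (zarHom_ext S _ _)

theorem shortExact_resZar {T : ShortComplex (BigSite.Ab Scheme.zariskiPrecoverage S)} (hT : T.ShortExact) :
    (T.map (BigSite.resZar Scheme.zariskiPrecoverage S)).ShortExact := by
  haveI := hT.mono_f
  haveI := hT.epi_g
  haveI := (BigSite.piZarAdj Scheme.zariskiPrecoverage S).rightAdjoint_preservesLimits.{0, 0}
  haveI : Mono (T.map (BigSite.resZar Scheme.zariskiPrecoverage S)).f :=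
    inferInstanceAs (Mono ((BigSite.resZar Scheme.zariskiPrecoverage S).map T.f))
  haveI : Sheaf.IsLocallySurjective (T.map (BigSite.resZar Scheme.zariskiPrecoverage S)).g :=
    isLocallySurjective_resZar T.g
  haveI : Epi (T.map (BigSite.resZar Scheme.zariskiPrecoverage S)).g := Sheaf.epi_of_isLocallySurjective _
  exact { exact := hT.exact.map_of_mono_of_preservesKernel _ inferInstance inferInstance }

/-- Sections over the largest open are global sections. -/
noncomputable def topObjIso : (BigSite.zarIncl S).obj ⊤ ≅ Over.mk (𝟙 S) :=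
  Over.isoMk S.topIso ((Category.comp_id _).trans S.topIso_hom)

/-- Degree zero. -/
noncomputable def degZero (F : BigSite.Ab Scheme.zariskiPrecoverage S) :
    EtZar.H ((BigSite.resZar Scheme.zariskiPrecoverage S).obj F) 0 ≃+ BigSite.H Scheme.zariskiPrecoverage S F 0 :=
  ((Sheaf.H.equiv₀ ((BigSite.resZar Scheme.zariskiPrecoverage S).obj F)
      (isTerminalTop : IsTerminal (⊤ : S.Opens))).trans
    (F.obj.mapIso (topObjIso (S := S)).op.symm).addCommGroupIsoToAddEquiv).trans
      (Sheaf.H.equiv₀ F Over.mkIdTerminal).symm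

lemma degZero_natural {F G : BigSite.Ab Scheme.zariskiPrecoverage S} (φ : F ⟶ G)
    (x : EtZar.H ((BigSite.resZar Scheme.zariskiPrecoverage S).obj F) 0) :
    degZero G (Sheaf.H.map ((BigSite.resZar Scheme.zariskiPrecoverage S).map φ) 0 x) =
      Sheaf.H.map φ 0 (degZero F x) := by
  apply (Sheaf.H.equiv₀ G Over.mkIdTerminal).injective
  simp only [degZero, AddEquiv.trans_apply, AddEquiv.apply_symm_apply]
  rw [← Sheaf.H.equiv₀_naturality, ← Sheaf.H.equiv₀_naturality, AddEquiv.apply_symm_apply]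
  exact (NatTrans.naturality_apply φ.hom (topObjIso (S := S)).inv.op _).symm

/-- Zariski and big-site cohomology of good sheaves agree. -/
theorem nonempty_zarH_equiv (n : ℕ) :
    ∀ F : BigSite.Ab Scheme.zariskiPrecoverage S,
      Nonempty (EtZar.H ((BigSite.resZar Scheme.zariskiPrecoverage S).obj F) n ≃+
        BigSite.H Scheme.zariskiPrecoverage S F n) := by
  induction n with
  | zero => exact fun F => ⟨degZero F⟩
  | succ n ih =>
    intro F
    let T := ShortComplex.mk (Injective.ι F) (cokernel.π (Injective.ι F)) (cokernel.condition _)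
    have hT : T.ShortExact :=
      { exact := ShortComplex.exact_of_g_is_cokernel _ (cokernelIsCokernel _) }
    haveI : Injective (T.map (BigSite.resZar Scheme.zariskiPrecoverage S)).X₂ :=
      H02CA.Adq.injective_resZar S Scheme.zariskiPrecoverage (Injective.under F)
    haveI : Injective T.X₂ := inferInstanceAs (Injective (Injective.under F))
    have hT' := shortExact_resZar hT
    let Z := (constantSheaf (QuotSh.J Scheme.zariskiPrecoverage S) AddCommGrpCat.{u + 1}).obj
      (AddCommGrpCat.of (ULift.{u + 1} ℤ))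
    let Z' := (constantSheaf (Opens.grothendieckTopology S) AddCommGrpCat.{u + 1}).obj
      (AddCommGrpCat.of (ULift.{u + 1} ℤ))
    obtain ⟨e, he⟩ : ∃ e : Ext.{u + 1} Z' (T.map (BigSite.resZar Scheme.zariskiPrecoverage S)).X₃ n ≃+
        Ext.{u + 1} Z T.X₃ n,
        (H02CA.Adq.shiftRange (T := T.map (BigSite.resZar Scheme.zariskiPrecoverage S)) Z' n).map e.toAddMonoidHom =
          H02CA.Adq.shiftRange (T := T) Z n := by
      cases n with
      | zero =>
        refine ⟨degZero T.X₃, ?_⟩
        ext y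
        constructor
        · rintro ⟨_, ⟨x, rfl⟩, rfl⟩
          exact ⟨degZero T.X₂ x, (degZero_natural T.g x).symm⟩
        · rintro ⟨x, rfl⟩
          refine ⟨_, ⟨(degZero T.X₂).symm x, rfl⟩, ?_⟩
          refine (degZero_natural T.g _).trans ?_
          rw [AddEquiv.apply_symm_apply]
          rfl
      | succ m =>
        obtain ⟨e⟩ := ih T.X₃
        refine ⟨e, ?_⟩
        have h₁ : H02CA.Adq.shiftRange (T := T.map (BigSite.resZar Scheme.zariskiPrecoverage S)) Z' (m + 1) = ⊥ := by
          refine (AddSubgroup.eq_bot_iff_forall _).2 ?_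
          rintro _ ⟨x, rfl⟩
          rw [Ext.eq_zero_of_injective x, map_zero]
        have h₂ : H02CA.Adq.shiftRange (T := T) Z (m + 1) = ⊥ := by
          refine (AddSubgroup.eq_bot_iff_forall _).2 ?_
          rintro _ ⟨x, rfl⟩
          rw [Ext.eq_zero_of_injective x, map_zero]
        rw [h₁, h₂, AddSubgroup.map_bot]
    exact ⟨(H02CA.Adq.shiftEquiv hT' Z' n).symm.trans ((QuotientAddGroup.congr _ _ e he).trans (H02CA.Adq.shiftEquiv hT Z n))⟩

end Groth.Agent.H13BigSite.ZarH
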